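import Cfsg.Agent.H332.PQ.Rgd
import Cfsg.Agent.H55.PQ.Pr
import Cfsg.Agent.H395.PQ.WittField

/-!
# S4981, defining characteristic: `pr_false` for groups with root group data (helper332)

* `pr_false_of_rgd` : all group hypotheses of `pr_false` from a root group datum `R : RGD cs h p T n X` of the finite group
  `S` generated by the root groups. What remains: `T` abelian, `Ψ γ` (`γ` of order a power of `p`) and `Ψ φ` map the
  positive root groups into `U`, `Ψ φ` maps `T` into `T` and `n i` into `n i T`, and the element `t`;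
* `pr_false_model` : the same for a group with a model over a Witt frame with at least two hyperbolic planes, the
  automorphisms `Ψ γ` induced by semilinear symmetries of the frame (`Ind`, helper395).
-/

set_option autoImplicit false
set_option linter.unusedSectionVars false

namespace Cfsg.Agent.H332.PQ

open Subgroup Cfsg.Agent.H54.PQ
open CoxeterSystem Cfsg.Agent.ChevalleyStructure.CoxeterGeom Cfsg.Agent.Tits.Roots Cfsg.Agent.Tits.Core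
  Cfsg.Agent.Tits.RootComb Cfsg.Agent.Nodes.Comb Cfsg.Agent.Nodes.Reps Cfsg.Agent.Nodes.BNOf Cfsg.Agent.Nodes.RGDLib

universe u v

/-- **the bridge**: `pr_false` for a root group datum -/
theorem pr_false_of_rgd {p q : ℕ} [Fact p.Prime] [Fact q.Prime] (hpq : p ≠ q) {S : Type u} [Group S] [Finite S]
    (hZ : center S = ⊥) (hqS : ¬ q ∣ Nat.card S)
    {I : Type*} [Fintype I] [DecidableEq I] {W : Type*} [Group W] [Finite W] {M : CoxeterMatrix I}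
    {cs : CoxeterSystem M W} {A' : I → I → ℤ} {h : IsCartan M A'} {T : Subgroup S} {n : I → S}
    {X : (I → ℤ) → Subgroup S} (R : RGD cs h p T n X) (hG : G1 cs h X = ⊤)
    {Γ : Type v} [CommGroup Γ] [Finite Γ] (Ψ : Γ →* MulAut S)
    {A Φ : Subgroup (MulAut S)} (hA : IsPGroup p A)
    (hsyl : ∃ P : Sylow p S, (P : Subgroup S).map (MulAut.conj : S →* MulAut S) ≤ A)
    (ha : ∀ a ∈ A, ∃ (s : S) (γ : Γ) (k : ℕ), orderOf γ = p ^ k ∧ a = MulAut.conj s * Ψ γ) (hinv : InvHyp p A Φ)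
    {φ : Γ} (hφq : ∃ k : ℕ, orderOf φ = q ^ k) (hφ : Ψ φ ∈ Φ)
    (hTc : ∀ t ∈ T, ∀ t' ∈ T, t * t' = t' * t)
    (hγX : ∀ (γ : Γ) (k : ℕ), orderOf γ = p ^ k → ∀ x, IsRoot cs h x → 0 ≤ x → ∀ u ∈ X x,
      Ψ γ u ∈ RGD.Sup X (RGD.Pos cs h))
    (hφX : ∀ x, IsRoot cs h x → 0 ≤ x → ∀ u ∈ X x, Ψ φ u ∈ RGD.Sup X (RGD.Pos cs h))
    (hφT : ∀ t ∈ T, Ψ φ t ∈ T) (hφN : ∀ i, (n i)⁻¹ * Ψ φ (n i) ∈ T) {t : S} (ht : t ∈ T)
    (htp : ∀ (γ : Γ) (k : ℕ), orderOf γ = p ^ k → Ψ γ t = t) (htφ : Ψ φ t ≠ t) : False :=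
  H55.PQ.pr_false hpq hZ hqS Ψ hA hsyl ha hinv hφq hφ (RGD.B cs h T X) (NN cs R.nsys) T (RGD.Sup X (RGD.Pos cs h))
    R.isPGroup_Upos (index_U R hG) (bnb R hG) RGD.T_le_B (fun t ht => ⟨1, rp_of_mem ht⟩) (sup_comm _ _)
    (normalizer_eq_B R hG) hTc (fun k hk t ht => conj_NN R hk ht) (fun γ k hγ => map_U (Ψ γ) (hγX γ k hγ))
    (map_U (Ψ φ) hφX) hφT (fun k hk => inv_mul_map_mem R (Ψ φ) hφT hφN hk) ht htp htφ R.tcop

end Cfsg.Agent.H332.PQ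

namespace Cfsg.Agent.H332.PQ

open Cfsg.Agent.ChevalleyStructure.CoxeterGeom Cfsg.Agent.Tits.Roots Cfsg.Agent.Nodes.TypeC
open Cfsg.Agent.Nodes.Comb Cfsg.Agent.Nodes.Reps Cfsg.Agent.Nodes.WittRoot Cfsg.Agent.Nodes.BNOf
open Cfsg.Agent.Nodes.WittRGD Cfsg.Agent.Nodes.RGDLib Cfsg.Agent.Nodes.WittAll
open Cfsg.Agent.Nodes
open Cfsg.Agent.TitsThree Cfsg.Agent.TitsThree.Siegel Cfsg.Agent.TitsThree.WittFrame
  Cfsg.Agent.TitsThree.WittWeyl Cfsg.Agent.TitsThree.FrameCN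
open Cfsg.Agent.H54.PQ Cfsg.Agent.H395.PQ.WittField

universe u v

/-- **`pr_false` for a group modelled on a Witt frame with two hyperbolic planes** -/
theorem pr_false_model {p q : ℕ} [hp : Fact p.Prime] [Fact q.Prime] (hpq : p ≠ q) {F : Type*} [Field F] [CharP F p]
    {V : Type*} [AddCommGroup V] [Module F V] [Finite V] {H : HForm F V} {n : ℕ} (hn : 2 ≤ n) {Fr : Frame H (Fin n)}
    {K : Type u} [Group K] [Finite K] (hZ : Subgroup.center K = ⊥) (hqK : ¬ q ∣ Nat.card K)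
    (M : Model Fr K) (hM : AmbT Fr p M.I) {p0 : Fr.Adm} (hp0 : p0.c ≠ 0)
    (hTc : ∀ g ∈ Tor Fr M.I, ∀ k ∈ Tor Fr M.I, g * k = k * g)
    {Γ : Type v} [CommGroup Γ] [Finite Γ] (Ψ : Γ →* MulAut K)
    (ρ : Γ → F ≃+* F) (s : Γ → V ≃+ V) (hI : ∀ γ, Ind M (ρ γ) (s γ) (Ψ γ))
    {A Φ : Subgroup (MulAut K)} (hA : IsPGroup p A)
    (hsyl : ∃ P : Sylow p K, (P : Subgroup K).map (MulAut.conj : K →* MulAut K) ≤ A)
    (ha : ∀ a ∈ A, ∃ (s : K) (γ : Γ) (k : ℕ), orderOf γ = p ^ k ∧ a = MulAut.conj s * Ψ γ) (hinv : InvHyp p A Φ)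
    {φ : Γ} (hφq : ∃ k : ℕ, orderOf φ = q ^ k) (hφ : Ψ φ ∈ Φ) {u : F} (hu0 : u ≠ 0)
    (hup : ∀ (γ : Γ) (k : ℕ), orderOf γ = p ^ k → ρ γ u = u) (huφ : ρ φ (u ^ 2) ≠ u ^ 2) : False := by
  have hW : Finite (CoxeterMatrix.B n).Group := Nodes.TypeC.finite_W (CoxeterMatrix.B n).toCoxeterSystem
  -- the torus element
  let x : Fin n × Bool := (⟨0, by omega⟩, true)
  let y : Fin n × Bool := (⟨1, by omega⟩, false)
  have hxy : x.1 ≠ y.1 := by
    intro h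
    have := congrArg Fin.val h
    simp [x, y] at this
  have hnX : ∀ w : F, nX Fr x y w ∈ M.I := fun w =>
    mul_mem (mul_mem (hM.X_mem _ _ _) (hM.X_mem _ _ _)) (hM.X_mem _ _ _)
  have htt : ∀ w : F, tt Fr x y w ∈ M.I := fun w => mul_mem (hnX w) (inv_mem (hnX 1))
  have hΨt : ∀ γ : Γ, Ψ γ (M.φ ⟨tt Fr x y u, htt u⟩) = M.φ ⟨tt Fr x y (ρ γ u), htt _⟩ := by
    intro γ
    rw [(hI γ).ind]
    congr 1
    exact Subtype.ext (conjS_tt (hI γ).toSemi x y u)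
  refine pr_false_of_rgd hpq hZ hqK (rgdC_model M hM hp0 (CoxeterMatrix.B n).toCoxeterSystem)
    (WittModel.G1_eq_top M (by omega) (CoxeterMatrix.B n).toCoxeterSystem) Ψ hA hsyl ha hinv hφq hφ ?_
    (fun γ _ _ x hx h0 w hw => RGD.le_Sup (S := RGD.Pos _ (isCartan n)) ⟨hx, h0⟩ ((hI γ).map_X hw))
    (fun x hx h0 w hw => RGD.le_Sup (S := RGD.Pos _ (isCartan n)) ⟨hx, h0⟩ ((hI φ).map_X hw))
    (fun t ht => (hI φ).map_T ht) (fun i => (hI φ).nn_mem hM hp0 i) (t := M.φ ⟨tt Fr x y u, htt u⟩) ?_ ?_ ?_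
  · rintro _ ⟨g, hg, rfl⟩ _ ⟨k, hk, rfl⟩
    have h1 : g.1 ∈ Tor Fr M.I := Subgroup.mem_subgroupOf.1 hg
    have h2 : k.1 ∈ Tor Fr M.I := Subgroup.mem_subgroupOf.1 hk
    show M.φ g * M.φ k = M.φ k * M.φ g
    rw [← map_mul, ← map_mul]
    congr 1
    exact Subtype.ext (hTc _ h1 _ h2)
  · refine Subgroup.mem_map_of_mem _ (Subgroup.mem_subgroupOf.2 ⟨htt u, ?_⟩)
    have h1 : y = nx (⟨0, by omega⟩ : Fin n) := by
      unfold nx
      rw [dif_pos (by simp; omega)]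
    have h2 : (((⟨0, by omega⟩ : Fin n) : ℕ) + 1 < n) := by simp; omega
    have m1 : Mono Fr (nX Fr x y u) (sg ⟨0, by omega⟩) := by
      rw [h1]; exact mono_nX h2 hu0
    have m2 : Mono Fr (nX Fr x y 1) (sg ⟨0, by omega⟩) := by
      rw [h1]; exact mono_nX h2 one_ne_zero
    exact (m1.mul (m2.inv (sg_sg _))).congr fun z => sg_sg _ z
  · intro γ k hk
    rw [hΨt]
    congr 1
    exact Subtype.ext (by rw [hup γ k hk])
  · intro he
    rw [hΨt] at he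
    apply huφ
    have h1 : M.φ (⟨tt Fr x y (ρ φ u), htt _⟩ * (⟨tt Fr x y u, htt u⟩ : M.I)⁻¹) = 1 := by
      rw [map_mul, map_inv, he, mul_inv_cancel]
    have h2 : ((⟨tt Fr x y (ρ φ u), htt _⟩ * (⟨tt Fr x y u, htt u⟩ : M.I)⁻¹ : M.I) : V ≃ₗ[F] V) =
        nX Fr x y (ρ φ u) * (nX Fr x y u)⁻¹ := by
      show nX Fr x y (ρ φ u) * (nX Fr x y 1)⁻¹ * (nX Fr x y u * (nX Fr x y 1)⁻¹)⁻¹ = _
      group
    have h3 : ∀ v : V, ∃ a : F, (nX Fr x y (ρ φ u) * (nX Fr x y u)⁻¹) v = a • v := by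
      intro v
      have := M.ker v _ h1
      rw [h2] at this
      exact this
    have hw0 : ρ φ u ≠ 0 := by simpa using hu0
    obtain ⟨e1, e2⟩ := quot_apply (Fr := Fr) hxy hu0 hw0
    have h4 := eq_of_lines hxy h3 e1 e2
    rw [map_pow]
    field_simp at h4
    linear_combination h4

end Cfsg.Agent.H332.PQ
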