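import Mathlib
import Cfsg.Agent.Nodes.NormalForm
import Cfsg.Agent.Nodes.RGDLib
import Cfsg.Agent.H54.PQ.Frame

/-!
# S4981, defining characteristic: groups with root group data (helper332)

The group hypotheses of `pr_false` from a root group datum `R : RGD cs h p T n X` of the finite group `S` generated by
the root groups (`pr_false_of_rgd` in `H332/PQ/RgdPr.lean`): `index_U`, `normalizer_eq_B`, `bnb`, `conj_NN`,
`inv_mul_map_mem`, `map_U`.
-/

set_option autoImplicit false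
set_option linter.unusedSectionVars false

namespace Cfsg.Agent.H332.PQ

open Subgroup Cfsg.Agent.H54.PQ
open CoxeterSystem Cfsg.Agent.ChevalleyStructure.CoxeterGeom Cfsg.Agent.Tits.Roots Cfsg.Agent.Tits.Core
  Cfsg.Agent.Tits.RootComb Cfsg.Agent.Nodes.Comb Cfsg.Agent.Nodes.Reps Cfsg.Agent.Nodes.BNOf Cfsg.Agent.Nodes.RGDLib
open Cfsg.Agent.Nodes.Bruhat Cfsg.Agent.Nodes.NormalForm

universe u v

section

variable {I : Type*} [Fintype I] [DecidableEq I] {W : Type*} [Group W] {S : Type u} [Group S] {M : CoxeterMatrix I}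
  {cs : CoxeterSystem M W} {A' : I → I → ℤ} {h : IsCartan M A'} {p : ℕ} {T : Subgroup S} {n : I → S}
  {X : (I → ℤ) → Subgroup S}

theorem gg_eq_top (hG : G1 cs h X = ⊤) : GG cs h T X = ⊤ := by
  rw [eq_top_iff, ← hG]
  exact le_sup_right

/-- `U` has index prime to `p` -/
theorem index_U [Finite W] [Finite S] [Fact p.Prime] (R : RGD cs h p T n X) (hG : G1 cs h X = ⊤) :
    ¬ p ∣ (RGD.Sup X (RGD.Pos cs h)).index := by
  obtain ⟨P, hP⟩ := (R.isPGroup_Upos).exists_le_sylow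
  have h1 : (P : Subgroup S) = RGD.Sup X (RGD.Pos cs h) :=
    eq_U_of_isPGroup R P.isPGroup' hP (by rw [gg_eq_top hG]; exact le_top)
  rw [← h1]
  exact P.not_dvd_index

theorem normalizer_eq_B [Finite W] (R : RGD cs h p T n X) (hG : G1 cs h X = ⊤) :
    normalizer (RGD.Sup X (RGD.Pos cs h) : Set S) = RGD.B cs h T X := by
  have h1 := normalizer_U R
  rwa [gg_eq_top hG, inf_top_eq] at h1

theorem bnb [Finite W] (R : RGD cs h p T n X) (hG : G1 cs h X = ⊤) (g : S) :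
    ∃ b ∈ RGD.B cs h T X, ∃ k ∈ NN cs R.nsys, ∃ b' ∈ RGD.B cs h T X, g = b * k * b' := by
  have h1 : g ∈ GG cs h T X := by rw [gg_eq_top hG]; exact mem_top _
  obtain ⟨w, b, hb, k, hk, b', hb', e⟩ := (mem_GG R).1 h1
  exact ⟨b, hb, k, ⟨w, hk⟩, b', hb', e⟩

theorem conj_NN (R : RGD cs h p T n X) {k : S} (hk : k ∈ NN cs R.nsys) {t : S} (ht : t ∈ T) : k * t * k⁻¹ ∈ T := by
  obtain ⟨w, hw⟩ := hk
  have h1 := mem_normalizer_iff_cj.1 hw.mem_normalizer
  rw [← h1]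
  exact conj_mem_cj.2 ht

/-- an automorphism which maps `T` into `T` and `n i` into `n i T` maps every `k ∈ N` into `k T` -/
theorem inv_mul_map_mem (R : RGD cs h p T n X) (f : MulAut S) (hT : ∀ t ∈ T, f t ∈ T)
    (hn : ∀ i, (n i)⁻¹ * f (n i) ∈ T) {k : S} (hk : k ∈ NN cs R.nsys) : k⁻¹ * f k ∈ T := by
  have hle : NN cs R.nsys ≤ T ⊔ Subgroup.closure (Set.range n) := NN_eq.le
  -- the set of all `k ∈ NN` with the property is a subgroup
  let K : Subgroup S :=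
    { carrier := {k | k ∈ NN cs R.nsys ∧ k⁻¹ * f k ∈ T}
      one_mem' := ⟨one_mem _, by rw [map_one, inv_one, mul_one]; exact one_mem _⟩
      mul_mem' := by
        rintro a b ⟨ha, ha'⟩ ⟨hb, hb'⟩
        refine ⟨mul_mem ha hb, ?_⟩
        have e : (a * b)⁻¹ * f (a * b) = (b⁻¹ * (a⁻¹ * f a) * b⁻¹⁻¹) * (b⁻¹ * f b) := by
          rw [map_mul]; group
        rw [e]
        exact mul_mem (conj_NN R (inv_mem hb) ha') hb'
      inv_mem' := by
        rintro a ⟨ha, ha'⟩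
        refine ⟨inv_mem ha, ?_⟩
        have e : a⁻¹⁻¹ * f a⁻¹ = a * (a⁻¹ * f a)⁻¹ * a⁻¹ := by
          rw [map_inv]; group
        rw [e]
        exact conj_NN R ha (inv_mem ha') }
  have h1 : T ⊔ Subgroup.closure (Set.range n) ≤ K := by
    refine sup_le (fun t ht => ?_) ?_
    · refine ⟨?_, mul_mem (inv_mem ht) (hT t ht)⟩
      rw [NN_eq]; exact le_sup_left (b := Subgroup.closure (Set.range n)) ht
    · rw [Subgroup.closure_le]
      rintro _ ⟨i, rfl⟩
      exact ⟨⟨_, rp_simple cs R.nsys i⟩, hn i⟩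
  exact (h1 (hle hk)).2

theorem map_U (f : MulAut S)
    (hf : ∀ x, IsRoot cs h x → 0 ≤ x → ∀ u ∈ X x, f u ∈ RGD.Sup X (RGD.Pos cs h)) :
    ∀ u ∈ RGD.Sup X (RGD.Pos cs h), f u ∈ RGD.Sup X (RGD.Pos cs h) := by
  have h1 : RGD.Sup X (RGD.Pos cs h) ≤ (RGD.Sup X (RGD.Pos cs h)).comap f.toMonoidHom :=
    RGD.Sup_le fun x hx u hu => hf x hx.1 hx.2 u hu
  exact fun u hu => h1 hu

end

end Cfsg.Agent.H332.PQ
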